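set_option autoImplicit false
namespace Cfsg.Agent.Lib.Helper6.TCD.S82X
noncomputable def QX (i : Nat) : Nat := Nat.land (Nat.shiftRight 0x7e87867f8180766a605b6c78675c5452644c5e6f7d584d45427a563c824e627526497c1a3677713447734a3e43836b1c7b136e3d6527793b3730743585154f0d39482f841d5d2e722969286d3f2c203a23685010661e615a5f3121182d7059403209575351114616634b242244053841551b1904142a33120c0f0e252b0b0a1f0817020706000301 (Nat.mul 8 (Nat.land i 255))) 255
end Cfsg.Agent.Lib.Helper6.TCD.S82X
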